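import Groth.Agent.HilbRepTangent.Alg
import Groth.Agent.ArtFunLib.HilbTangentSurj
import Groth.Agent.ArtFunLib.LocalFunctor
import Groth.Agent.PicTangent.Group
import Groth.Agent.S17082
import Groth.Prelude.Def_FGA

/-! The tangent space of a Hilbert scheme at a rational point. -/

set_option autoImplicit false
set_option backward.isDefEq.respectTransparency false
set_option backward.isDefEq.respectTransparency.types false
set_option linter.style.haveILetI false
set_option maxHeartbeats 800000
universe u

open CategoryTheory CategoryTheory.Limits AlgebraicGeometry ArtFun ArtFun.Art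

noncomputable section

namespace Groth.Agent.HilbRepTangent

variable {k : Type u} [Field k] {Y : Scheme.{u}} (y : Y ⟶ Spec (CommRingCat.of k))

/-- `Spec A` over `k`. -/
abbrev TA (A : Art k k) : Over (Spec (CommRingCat.of k)) := Over.mk (specOver A)

/-- `Spec k`. -/
abbrev pt (k : Type u) [Field k] : Over (Spec (CommRingCat.of k)) := Over.mk (𝟙 (Spec (CommRingCat.of k)))

theorem proper_flat_comap {T T' : Over (Spec (CommRingCat.of k))} (g : T' ⟶ T) (I : (PicF.XT y T).IdealSheafData)
    (hI : IsProper (I.subschemeι ≫ PicF.XTproj y T) ∧ Flat (I.subschemeι ≫ PicF.XTproj y T)) :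
    IsProper ((I.comap (PicF.XTmap y g)).subschemeι ≫ PicF.XTproj y T') ∧
      Flat ((I.comap (PicF.XTmap y g)).subschemeι ≫ PicF.XTproj y T') := by
  have sq : IsPullback (pullback.snd (PicF.XTmap y g) I.subschemeι)
      (pullback.fst (PicF.XTmap y g) I.subschemeι ≫ PicF.XTproj y T')
      (I.subschemeι ≫ PicF.XTproj y T) g.left :=
    IsPullback.paste_vert (IsPullback.of_hasPullback (PicF.XTmap y g) I.subschemeι).flip
      (Groth.Agent.S17082.isPullback_XTmap y g)
  haveI : IsProper (pullback.fst (PicF.XTmap y g) I.subschemeι ≫ PicF.XTproj y T') :=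
    MorphismProperty.of_isPullback (P := @IsProper) sq hI.1
  haveI : Flat (pullback.fst (PicF.XTmap y g) I.subschemeι ≫ PicF.XTproj y T') :=
    MorphismProperty.of_isPullback (P := @Flat) sq hI.2
  rw [← Scheme.IdealSheafData.comapIso_hom_fst, Category.assoc]
  exact ⟨inferInstance, inferInstance⟩

theorem XTmap_fst {T T' : Over (Spec (CommRingCat.of k))} (g : T' ⟶ T) :
    PicF.XTmap y g ≫ pullback.fst y T.hom = pullback.fst y T'.hom := by
  simp [PicF.XTmap]

theorem XTmap_snd {T T' : Over (Spec (CommRingCat.of k))} (g : T' ⟶ T) :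
    PicF.XTmap y g ≫ pullback.snd y T.hom = pullback.snd y T'.hom ≫ g.left := by
  simp [PicF.XTmap]

/-- The deformation functor of the point is the local Hilbert functor. -/
theorem exists_pointed [IsProper y] (H : Over (Spec (CommRingCat.of k))) (Z : FGA.HilbSet y H)
    (hH : FGA.HilbRepresentedBy y H Z) (I₀ : Y.IdealSheafData) (h : pt k ⟶ H)
    (hh : FGA.hilbPull y h Z.1 = I₀.comap (pullback.fst y (pt k).hom)) :
    ∃ (_ : Algebra k (H.left.presheaf.stalk (h.left.base (IsLocalRing.closedPoint k))))
      (_ : IsNoetherianRing (H.left.presheaf.stalk (h.left.base (IsLocalRing.closedPoint k))))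
      (ev : H.left.presheaf.stalk (h.left.base (IsLocalRing.closedPoint k)) →ₐ[k] k)
      (E : ∀ A : Art k k, HomSet (H.left.presheaf.stalk (h.left.base (IsLocalRing.closedPoint k))) ev A →
        (localHilb Y y I₀).obj A),
      (∀ A, Function.Bijective (E A)) ∧
        ∀ {A B : Art k k} (f : A ⟶ B) (φ : HomSet (H.left.presheaf.stalk (h.left.base (IsLocalRing.closedPoint k))) ev A),
          E B (HomSet.map f φ) = (localHilb Y y I₀).map f (E A φ) := by
  classical
  obtain ⟨hN, hrep⟩ := hH
  haveI := hN
  rw [Groth.Agent.S17082.hilbPull_eq] at hh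
  let p : H.left := h.left.base (IsLocalRing.closedPoint k)
  let R : Type u := H.left.presheaf.stalk p
  letI : Algebra k R := (Groth.Agent.PicTangent.scalAt H p).toAlgebra
  obtain ⟨ev', hev'⟩ := Groth.Agent.PicTangent.exists_stalk_hom (C := k) (X := H.left) h.left (y := p) rfl
  have hevc : ev'.comp (Groth.Agent.PicTangent.scalAt H p) = RingHom.id k := by
    refine congrArg CommRingCat.Hom.hom (Spec.map_injective
      (show Spec.map (CommRingCat.ofHom (ev'.comp (Groth.Agent.PicTangent.scalAt H p))) =
        Spec.map (𝟙 (CommRingCat.of k)) from ?_))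
    rw [CommRingCat.ofHom_comp, Spec.map_comp, Groth.Agent.PicTangent.scalAt_spec, ← Category.assoc, hev', Spec.map_id]
    exact Over.w h
  let ev : R →ₐ[k] k := { ev' with commutes' := fun c => RingHom.congr_fun hevc c }
  have hev : Spec.map (CommRingCat.ofHom ev.toRingHom) ≫ H.left.fromSpecStalk p = h.left := hev'
  haveI : IsNoetherianRing R := inferInstanceAs (IsNoetherianRing (H.left.presheaf.stalk p))
  -- the morphism attached to a point
  let g : ∀ (A : Art k k), HomSet R ev A → (TA A ⟶ H) := fun A φ =>
    Over.homMk (Spec.map (CommRingCat.ofHom (R := R) (S := (A : Type u)) φ.1.toRingHom) ≫ H.left.fromSpecStalk p) (by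
      rw [Category.assoc, ← Groth.Agent.PicTangent.scalAt_spec, ← Spec.map_comp]
      refine congrArg Spec.map (CommRingCat.hom_ext (RingHom.ext fun c => ?_))
      exact φ.1.commutes c)
  have hgres : ∀ (A : Art k k) (φ : HomSet R ev A), specRes A ≫ (g A φ).left = h.left := fun A φ => by
    rw [← hev]
    show Spec.map _ ≫ Spec.map _ ≫ _ = _
    rw [← Spec.map_comp_assoc]
    refine congrArg (fun m => Spec.map m ≫ H.left.fromSpecStalk p) (CommRingCat.hom_ext (RingHom.ext fun r => ?_))
    exact congr($(φ.2) r)
  -- the closed fibre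
  let q : Y ⟶ PicF.XT y (pt k) := pullback.lift (𝟙 Y) y (by simp)
  have hq : q ≫ pullback.fst y (pt k).hom = 𝟙 Y := pullback.lift_fst _ _ _
  have hincl : ∀ (A : Art k k) (u : TA A ⟶ H), specRes A ≫ u.left = h.left →
      XAincl y A ≫ PicF.XTmap y u = q ≫ PicF.XTmap y h := fun A u hu => by
    apply pullback.hom_ext
    · rw [Category.assoc, Category.assoc, XTmap_fst, XTmap_fst, hq]
      exact XAincl_fst y A
    · rw [Category.assoc, Category.assoc, XTmap_snd, XTmap_snd]
      show XAincl y A ≫ XApr y A ≫ u.left = _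
      rw [← Category.assoc, XAincl_snd, Category.assoc, hu, ← Category.assoc]
      exact congrArg (· ≫ h.left) (pullback.lift_snd _ _ _).symm
  let E : ∀ (A : Art k k), HomSet R ev A → (localHilb Y y I₀).obj A := fun A φ =>
    ⟨Z.1.comap (PicF.XTmap y (g A φ)), (proper_flat_comap y (g A φ) Z.1 Z.2).2, by
      show (Z.1.comap (PicF.XTmap y (g A φ))).comap (XAincl y A) = I₀
      rw [← Scheme.IdealSheafData.comap_comp, hincl A _ (hgres A φ), Scheme.IdealSheafData.comap_comp, hh,
        ← Scheme.IdealSheafData.comap_comp, hq, Scheme.IdealSheafData.comap_id]⟩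
  have hnat : ∀ {A B : Art k k} (f : A ⟶ B) (φ : HomSet R ev A),
      E B (HomSet.map f φ) = (localHilb Y y I₀).map f (E A φ) := fun {A B} f φ => Subtype.ext (by
    show Z.1.comap _ = (Z.1.comap (PicF.XTmap y (g A φ))).comap (XAmap y f)
    rw [← Scheme.IdealSheafData.comap_comp]
    congr 1
    apply pullback.hom_ext
    · rw [Category.assoc, XTmap_fst, XTmap_fst]
      exact (XAmap_fst y f).symm
    · rw [Category.assoc, XTmap_snd, XTmap_snd]
      show _ = XAmap y f ≫ XApr y A ≫ (g A φ).left
      rw [← Category.assoc (XAmap y f), XAmap_snd, Category.assoc]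
      refine congrArg (pullback.snd y _ ≫ ·) ?_
      show _ = Spec.map _ ≫ Spec.map _ ≫ _
      rw [← Spec.map_comp_assoc]
      rfl)
  have hbij : ∀ A : Art k k, Function.Bijective (E A) := fun A => by
    haveI : IsLocallyNoetherian (TA A).left := inferInstanceAs (IsLocallyNoetherian (Spec (CommRingCat.of A)))
    haveI : IsLocallyNoetherian (pt k).left := inferInstanceAs (IsLocallyNoetherian (Spec (CommRingCat.of k)))
    refine ⟨fun φ φ' hE => ?_, fun I => ?_⟩
    · obtain ⟨g₀, -, hu⟩ := hrep (TA A) ⟨Z.1.comap (PicF.XTmap y (g A φ)), proper_flat_comap y _ Z.1 Z.2⟩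
      have e1 : g A φ = g₀ := hu _ (Groth.Agent.S17082.hilbPull_eq _ _ _)
      have e2 : g A φ' = g₀ := hu _ ((Groth.Agent.S17082.hilbPull_eq _ _ _).trans (congrArg Subtype.val hE).symm)
      have e3 : (g A φ).left = (g A φ').left := congrArg (·.left) (e1.trans e2.symm)
      exact Subtype.ext (AlgHom.ext fun r => RingHom.congr_fun (Groth.Agent.PicTangent.stalk_hom_ext
        (a := φ.1.toRingHom) (b := φ'.1.toRingHom) e3) r)
    · haveI : IsProper (XApr y A) := MorphismProperty.pullback_snd _ _ inferInstance
      obtain ⟨u, hu, -⟩ := hrep (TA A) ⟨I.1, inferInstanceAs (IsProper (I.1.subschemeι ≫ XApr y A)), I.2.1⟩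
      rw [Groth.Agent.S17082.hilbPull_eq] at hu
      let s : pt k ⟶ TA A := Over.homMk (specRes A) (by
        show specRes A ≫ specOver A = 𝟙 _
        exact (specRes_comp _).trans ((Category.id_comp _).symm.trans (comp_specRes_base (𝟙 _))))
      have hs : s ≫ u = h := by
        obtain ⟨g₀, -, hu'⟩ := hrep (pt k) ⟨Z.1.comap (PicF.XTmap y h), proper_flat_comap y _ Z.1 Z.2⟩
        refine (hu' _ ?_).trans (hu' _ (Groth.Agent.S17082.hilbPull_eq _ _ _)).symm
        refine (Groth.Agent.S17082.hilbPull_eq _ _ _).trans ?_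
        show _ = Z.1.comap (PicF.XTmap y h)
        have e : PicF.XTmap y (s ≫ u) = pullback.fst y (pt k).hom ≫ XAincl y A ≫ PicF.XTmap y u := by
          apply pullback.hom_ext
          · rw [XTmap_fst, Category.assoc, Category.assoc, XTmap_fst]
            exact ((congrArg (pullback.fst y (pt k).hom ≫ ·) (XAincl_fst y A)).trans (Category.comp_id _)).symm
          · rw [XTmap_snd, Category.assoc, Category.assoc, XTmap_snd]
            show _ = pullback.fst y (pt k).hom ≫ XAincl y A ≫ XApr y A ≫ u.left
            rw [← Category.assoc (XAincl y A), XAincl_snd, Category.assoc, pullback.condition_assoc]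
            simp [s]
        rw [e, hh, Scheme.IdealSheafData.comap_comp, Scheme.IdealSheafData.comap_comp, hu]
        exact congrArg (fun J => J.comap (pullback.fst y (pt k).hom)) I.2.2
      have hres : specRes A ≫ u.left = h.left := congrArg (·.left) hs
      have hp : u.left (IsLocalRing.closedPoint (A : Type u)) = p := by
        haveI := ArtFunLib.LocalFunctor.subsingleton_spec A
        rw [show (IsLocalRing.closedPoint (A : Type u) : (Art.spec A : Scheme.{u})) =
          specRes A (IsLocalRing.closedPoint k) from Subsingleton.elim _ _]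
        exact congr($hres (IsLocalRing.closedPoint k))
      obtain ⟨a, ha⟩ := Groth.Agent.PicTangent.exists_stalk_hom (C := (A : Type u)) u.left hp
      let φa : R →ₐ[k] A :=
        { a with
          commutes' := fun c => by
            have h1 : CommRingCat.ofHom (a.comp (Groth.Agent.PicTangent.scalAt H p)) =
                CommRingCat.ofHom (ofBase A).toAlgHom.toRingHom := Spec.map_injective (by
              rw [CommRingCat.ofHom_comp, Spec.map_comp, Groth.Agent.PicTangent.scalAt_spec, ← Category.assoc, ha]
              exact Over.w u)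
            exact congr($h1 c) }
      have hφ : A.res.comp φa = ev := by
        have h1 : A.res.toRingHom.comp a = ev.toRingHom := Groth.Agent.PicTangent.stalk_hom_ext (by
          rw [CommRingCat.ofHom_comp, Spec.map_comp, Category.assoc, ha, hev]
          exact hres)
        exact AlgHom.ext fun r => RingHom.congr_fun h1 r
      refine ⟨⟨φa, hφ⟩, Subtype.ext ?_⟩
      have hgu : g A ⟨φa, hφ⟩ = u := Over.OverMorphism.ext ha
      show Z.1.comap _ = _
      rw [hgu, hu]
  exact ⟨inferInstance, inferInstance, ev, E, hbij, fun f φ => hnat f φ⟩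

theorem exists_finrank_eq [IsProper y] [Y.Over (Spec (CommRingCat.of k))] (hy : (Y ↘ Spec (CommRingCat.of k)) = y)
    (H : Over (Spec (CommRingCat.of k))) (Z : FGA.HilbSet y H) (hH : FGA.HilbRepresentedBy y H Z)
    (I₀ : Y.IdealSheafData) (h : pt k ⟶ H)
    (hh : FGA.hilbPull y h Z.1 = I₀.comap (pullback.fst y (pt k).hom)) :
    Module.finrank (IsLocalRing.ResidueField (H.left.presheaf.stalk (h.left.base (IsLocalRing.closedPoint k))))
        (IsLocalRing.CotangentSpace (H.left.presheaf.stalk (h.left.base (IsLocalRing.closedPoint k)))) =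
      Module.finrank k (ClSub.idealMod I₀ ⟶ ClSub.quotMod I₀) := by
  obtain ⟨alg, hNR, ev, E, hbij, hnat⟩ := exists_pointed y H Z hH I₀ h hh
  letI := alg
  haveI := hNR
  -- the linear structure
  choose f hf using ArtFunLib.HilbTangent.exists_val y (I₀ := I₀)
  refine finrank_cotangent ev (fun φ => f (E (dual k k) φ)) (Function.Bijective.comp ?_ (hbij _)) (fun z => ?_)
    (fun c φ => ?_)
  · refine ⟨fun I J e => ArtFunLib.HilbTangent.isVal_inj y (hf I) (e ▸ hf J), fun φ => ?_⟩
    obtain ⟨I, hI⟩ := ArtFunLib.HilbTangent.exists_of_hom y φ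
    exact ⟨I, ArtFunLib.HilbTangent.isVal_unique y (hf I) hI⟩
  · show f (E _ (HomSet.map plus z)) = _
    rw [hnat plus z]
    exact ArtFunLib.HilbTangent.isVal_unique y (hf _) (ArtFunLib.HilbTangent.isVal_add y (E _ z)
      (by rw [← hnat pr₁ z]; exact hf _) (by rw [← hnat pr₂ z]; exact hf _))
  · show f (E _ (HomSet.map (scale c) φ)) = _
    rw [hnat (scale c) φ]
    exact ArtFunLib.HilbTangent.isVal_unique y (hf _) (ArtFunLib.HilbTangent.isVal_smul y hy c (hf _))

end Groth.Agent.HilbRepTangent
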