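import Groth.Agent.HilbRepTangent.Regular
import Groth.Agent.HilbRepTangent.Main
import Groth.Agent.CILib.Basic
import Groth.Agent.S0548

/-! Dimension bounds of a Noetherian local ring with an obstruction theory. -/

set_option autoImplicit false
set_option linter.style.haveILetI false
set_option backward.isDefEq.respectTransparency false
set_option backward.isDefEq.respectTransparency.types false
universe u v

open CategoryTheory ArtFun IsLocalRing TensorProduct

noncomputable section

namespace Groth.Agent.HilbRepTangent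

variable {k : Type u} [Field k]

/-- Obstruction theories pull back along natural bijections on the objects. -/
theorem hasObsTheory_of_bijective {F : Art k k ⥤ Type v} {R : Type u} [CommRing R] [Algebra k R] {ev : R →ₐ[k] k}
    (E : ∀ A : Art k k, HomSet R ev A → F.obj A) (hE : ∀ A, Function.Bijective (E A))
    (hnat : ∀ {A B : Art k k} (f : A ⟶ B) (φ : HomSet R ev A), E B (HomSet.map f φ) = F.map f (E A φ))
    {V : Type u} [AddCommGroup V] [Module k V] (h : HasObsTheory F V) : HasObsTheory (hR R ev) V := by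
  obtain ⟨T⟩ := h
  exact ⟨{ obs := fun {C' C} p hp φ => T.obs p hp (E C φ)
           obs_eq_zero_iff := fun {C' C} p hp φ => by
             rw [T.obs_eq_zero_iff]
             constructor
             · rintro ⟨y, hy⟩
               obtain ⟨ψ, rfl⟩ := (hE C').2 y
               exact ⟨ψ, (hE C).1 ((hnat p ψ).trans hy)⟩
             · rintro ⟨ψ, hψ⟩
               exact ⟨E C' ψ, (hnat p ψ).symm.trans (congrArg (E C) hψ)⟩
           obs_quot := fun {C' C} p hp K hK hKJ hq φ => T.obs_quot p hp K hK hKJ hq (E C φ) }⟩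

/-- Dimension bounds and complete intersections from an obstruction theory. -/
theorem bounds {R : Type u} [CommRing R] [Algebra k R] [IsLocalRing R] [IsNoetherianRing R] (ev : R →ₐ[k] k)
    {W : Type u} [AddCommGroup W] [Module k W] [Module.Finite k W] (hW : HasObsTheory (hR R ev) W) :
    ringKrullDim R ≤ (Module.finrank (ResidueField R) (CotangentSpace R) : WithBot ℕ∞) ∧
      (Module.finrank (ResidueField R) (CotangentSpace R) : WithBot ℕ∞) ≤
          ringKrullDim R + (Module.finrank k W : WithBot ℕ∞) ∧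
      (ringKrullDim R + (Module.finrank k W : WithBot ℕ∞) =
          (Module.finrank (ResidueField R) (CotangentSpace R) : WithBot ℕ∞) →
        Pi1.IsCompleteIntersection R) := by
  classical
  have hsurj : Function.Surjective ev := fun c => ⟨algebraMap k R c, ev.commutes c⟩
  obtain ⟨T, ι, he, hι, -, -, hex, hu⟩ := Groth.Agent.ArtFunLib.Completion.exists_completion_ringEquiv ev hsurj
  rw [ker_ev ev] at he
  obtain ⟨e⟩ := he
  obtain ⟨O⟩ := hW
  have hO : HasObsTheory (hR T.carrier T.res) W :=
    ⟨{ obs := fun {C' C} p hp φ => O.obs p hp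
          (⟨(φ : HomSet T.carrier T.res C).1.comp ι, by
            rw [← AlgHom.comp_assoc, (φ : HomSet T.carrier T.res C).2, hι]⟩ : HomSet R ev C)
       obs_eq_zero_iff := fun {C' C} p hp φ => by
         let φ' : HomSet T.carrier T.res C := φ
         refine (O.obs_eq_zero_iff p hp _).trans ?_
         constructor
         · rintro ⟨ψ, hψ⟩
           let ψ' : HomSet R ev C' := ψ
           obtain ⟨h, hh, hh'⟩ := hex (ArtFunLib.toCRing C') ψ'.1 ψ'.2
           refine ⟨(⟨h, hh⟩ : HomSet T.carrier T.res C'), Subtype.ext ?_⟩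
           refine hu (ArtFunLib.toCRing C) (p.toAlgHom.comp h) φ'.1 ?_ φ'.2 ?_
           · show C.res.comp (p.toAlgHom.comp h) = _
             rw [← AlgHom.comp_assoc, p.res_comp]
             exact hh
           · rw [AlgHom.comp_assoc, hh']
             exact congrArg Subtype.val hψ
         · rintro ⟨ψ, hψ⟩
           let ψ' : HomSet T.carrier T.res C' := ψ
           refine ⟨(⟨ψ'.1.comp ι, by rw [← AlgHom.comp_assoc, ψ'.2, hι]⟩ : HomSet R ev C'), Subtype.ext ?_⟩
           show p.toAlgHom.comp (ψ'.1.comp ι) = φ'.1.comp ι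
           rw [← AlgHom.comp_assoc, show p.toAlgHom.comp ψ'.1 = φ'.1 from congrArg Subtype.val hψ]
       obs_quot := fun {C' C} p hp K hK hKJ hq φ => O.obs_quot p hp K hK hKJ hq _ }⟩
  obtain ⟨O'⟩ := hO
  obtain ⟨n, π, hπ, hJ⟩ := ArtFunLib.ObsHR.exists_minimal_presentation T
  haveI := PSLib.isRegularLocalRing k n
  obtain ⟨h1, h2, -, h4⟩ := ArtFunLib.ObsBound.bounds T.res π hπ hJ O'
  have hdim : ringKrullDim T.carrier = ringKrullDim R := by
    rw [← ringKrullDim_eq_of_ringEquiv e, CILib.ringKrullDim_adicCompletion]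
  have hedim : Module.finrank (ResidueField T.carrier) (CotangentSpace T.carrier) =
      Module.finrank (ResidueField R) (CotangentSpace R) := by
    haveI := LC.Canon.isNoetherianRing_completion (R := R)
    rw [← IsLocalRing.spanFinrank_maximalIdeal_eq_finrank_cotangentSpace,
      ← IsLocalRing.spanFinrank_maximalIdeal_eq_finrank_cotangentSpace,
      ← IsLocalRing.map_ringEquiv_maximalIdeal e, Ideal.spanFinrank_map_eq_of_ringEquiv,
      AdicCompletion.spanFinrank_maximalIdeal_eq]
  rw [hdim, hedim] at h1 h2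
  refine ⟨h1, h2, fun heq => ?_⟩
  obtain ⟨P, _, _, π', s, hπ', hs, hd⟩ := h4 (by rw [hdim, hedim]; exact heq)
  have hci : Synt29.CIKer π' := ⟨s.card, fun l => (s.equivFin.symm l : P), by
    rw [← hs]
    congr 1
    ext y
    exact ⟨fun hy => ⟨s.equivFin ⟨y, hy⟩, by simp⟩, fun ⟨l, hl⟩ => hl ▸ (s.equivFin.symm l).2⟩, hd⟩
  obtain ⟨rs, hrs, hker⟩ := (Synt29.ciKer_iff_regular π' hπ').1 hci
  refine ⟨P, inferInstance, inferInstance, rs, fun r hr => ?_, hrs, ⟨e.trans ?_⟩⟩
  · exact IsLocalRing.le_maximalIdeal (RingHom.ker_ne_top π') (hker.ge (Ideal.subset_span hr))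
  · exact (RingHom.quotientKerEquivOfSurjective hπ').symm.trans (Ideal.quotEquivOfEq hker)

/-- A presentation by an ideal in the square of the maximal ideal preserves the embedding dimension. -/
theorem spanFinrank_eq_of_ker_le_sq {P R : Type u} [CommRing P] [IsLocalRing P] [IsNoetherianRing P]
    [CommRing R] [IsLocalRing R] [IsNoetherianRing R] [Algebra k P] [Algebra k R] (π : P →ₐ[k] R)
    (hπ : Function.Surjective π) (hJ : RingHom.ker π ≤ maximalIdeal P ^ 2) :
    (maximalIdeal P).spanFinrank = (maximalIdeal R).spanFinrank := by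
  have hmap : (maximalIdeal P).map π.toRingHom = maximalIdeal R :=
    IsLocalRing.map_maximalIdeal_of_surjective _ hπ
  refine le_antisymm ?_ (hmap ▸ Ideal.spanFinrank_map_le_of_fg _ (maximalIdeal P).fg_of_isNoetherianRing)
  have hfg := (maximalIdeal R).fg_of_isNoetherianRing
  have hfin := Submodule.FG.finite_generators hfg
  choose z hz hzy using fun y : (maximalIdeal R).generators =>
    (Ideal.mem_map_iff_of_surjective π.toRingHom hπ).1 (show y.1 ∈ (maximalIdeal P).map π.toRingHom by
      rw [hmap]; exact (maximalIdeal R).span_generators.le (Submodule.subset_span y.2))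
  have hG : Ideal.span (Set.range z) = maximalIdeal P := by
    have hle : Ideal.span (Set.range z) ≤ maximalIdeal P := Ideal.span_le.2 (Set.range_subset_iff.2 hz)
    refine le_antisymm hle (Submodule.le_of_le_smul_of_le_jacobson_bot (maximalIdeal P).fg_of_isNoetherianRing
      (IsLocalRing.maximalIdeal_le_jacobson _) fun a ha => ?_)
    have h2 : π.toRingHom a ∈ (Ideal.span (Set.range z)).map π.toRingHom := by
      rw [Ideal.map_span]
      have h3 : π.toRingHom a ∈ Ideal.span (maximalIdeal R).generators := by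
        rw [Ideal.span, (maximalIdeal R).span_generators, ← hmap]
        exact Ideal.mem_map_of_mem _ ha
      exact Ideal.span_mono (fun y hy => (Set.mem_image _ _ _).2 ⟨z ⟨y, hy⟩, Set.mem_range_self _, hzy _⟩) h3
    obtain ⟨b, hb, hab⟩ := (Ideal.mem_map_iff_of_surjective π.toRingHom hπ).1 h2
    rw [← add_sub_cancel b a, smul_eq_mul, ← pow_two]
    exact Submodule.add_mem_sup hb (hJ (by rw [RingHom.mem_ker, map_sub, sub_eq_zero]; exact hab.symm))
  have := hfin.to_subtype
  calc (maximalIdeal P).spanFinrank = (Submodule.span P (Set.range z)).spanFinrank := by rw [← hG]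
    _ ≤ (Set.range z).ncard := Submodule.spanFinrank_span_le_ncard_of_finite (Set.finite_range z)
    _ = Nat.card (Set.range z) := (Nat.card_coe_set_eq _).symm
    _ ≤ Nat.card (maximalIdeal R).generators := Finite.card_range_le _
    _ = (maximalIdeal R).spanFinrank := by rw [Nat.card_coe_set_eq, Submodule.FG.generators_ncard hfg]

/-- The functor of a regular complete local ring with residue field `k` is smooth. -/
theorem isSmoothFunctor_of_regular (T : CRing k k)
    (h : ringKrullDim T.carrier = (Module.finrank (ResidueField T.carrier) (CotangentSpace T.carrier) : WithBot ℕ∞)) :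
    IsSmoothFunctor (hR T.carrier T.res) := by
  obtain ⟨n, π, hπ, hJ⟩ := ArtFunLib.ObsHR.exists_minimal_presentation T
  haveI := PSLib.isRegularLocalRing k n
  have hdim : ringKrullDim (MvPowerSeries (Fin n) k) = ringKrullDim T.carrier := by
    rw [h, ← (isRegularLocalRing_iff (MvPowerSeries (Fin n) k)).1 inferInstance, spanFinrank_eq_of_ker_le_sq π hπ hJ,
      IsLocalRing.spanFinrank_maximalIdeal_eq_finrank_cotangentSpace]
  have hinj : Function.Injective π := by
    refine (injective_iff_map_eq_zero π).2 fun z hz => ?_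
    by_contra hz0
    have h1 := ringKrullDim_quotient_succ_le_of_nonZeroDivisor (r := z) (mem_nonZeroDivisors_of_ne_zero hz0)
    let f : MvPowerSeries (Fin n) k ⧸ Ideal.span {z} →+* T.carrier := Ideal.Quotient.lift _ π.toRingHom (fun a ha => by
      obtain ⟨b, rfl⟩ := Ideal.mem_span_singleton'.1 ha
      show π (b * z) = 0
      rw [map_mul, hz, mul_zero])
    have h2 := ringKrullDim_le_of_surjective f (fun y => by
      obtain ⟨a, rfl⟩ := hπ y
      exact ⟨Ideal.Quotient.mk _ a, rfl⟩)
    rw [hdim] at h1
    have h3 := (add_le_add h2 le_rfl).trans h1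
    rw [h] at h3
    exact absurd h3 (by exact_mod_cast Nat.not_succ_le_self _)
  let e : MvPowerSeries (Fin n) k ≃ₐ[k] T.carrier := AlgEquiv.ofBijective π ⟨hinj, hπ⟩
  intro B A μ hμ φ
  let φ' : HomSet T.carrier T.res A := φ
  obtain ⟨ψ, hψ⟩ := ArtFunLib.ObsHR.isSmoothFunctor_powerSeries (T.res.comp π) μ hμ
    (⟨φ'.1.comp π, by rw [← AlgHom.comp_assoc, φ'.2]⟩ : HomSet (MvPowerSeries (Fin n) k) (T.res.comp π) A)
  let ψ' : HomSet (MvPowerSeries (Fin n) k) (T.res.comp π) B := ψ
  have he : ∀ a, π (e.symm a) = a := e.apply_symm_apply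
  refine ⟨(⟨ψ'.1.comp e.symm.toAlgHom, AlgHom.ext fun a => ?_⟩ : HomSet T.carrier T.res B),
    Subtype.ext (AlgHom.ext fun a => ?_)⟩
  · exact (congr($(ψ'.2) (e.symm a))).trans (congrArg T.res (he a))
  · exact (congr($(congrArg Subtype.val hψ) (e.symm a))).trans (congrArg φ'.1 (he a))

/-- The embedding dimension of a ring representing the local Hilbert functor. -/
theorem finrank_cotangent_eq_hom {Y : AlgebraicGeometry.Scheme.{u}} (y : Y ⟶ AlgebraicGeometry.Spec (CommRingCat.of k))
    [Y.Over (AlgebraicGeometry.Spec (CommRingCat.of k))]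
    (hy : (Y ↘ AlgebraicGeometry.Spec (CommRingCat.of k)) = y) (I₀ : Y.IdealSheafData)
    {R : Type u} [CommRing R] [Algebra k R] [IsLocalRing R] [IsNoetherianRing R] (ev : R →ₐ[k] k)
    (E : ∀ A : Art k k, HomSet R ev A → (localHilb Y y I₀).obj A) (hbij : ∀ A, Function.Bijective (E A))
    (hnat : ∀ {A B : Art k k} (f : A ⟶ B) (φ : HomSet R ev A),
      E B (HomSet.map f φ) = (localHilb Y y I₀).map f (E A φ)) :
    Module.finrank (ResidueField R) (CotangentSpace R) =
      Module.finrank k (ClSub.idealMod I₀ ⟶ ClSub.quotMod I₀) := by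
  choose f hf using ArtFunLib.HilbTangent.exists_val y (I₀ := I₀)
  refine finrank_cotangent ev (fun φ => f (E (Art.dual k k) φ)) (Function.Bijective.comp ?_ (hbij _)) (fun z => ?_)
    (fun c φ => ?_)
  · refine ⟨fun I J e => ArtFunLib.HilbTangent.isVal_inj y (hf I) (e ▸ hf J), fun φ => ?_⟩
    obtain ⟨I, hI⟩ := ArtFunLib.HilbTangent.exists_of_hom y φ
    exact ⟨I, ArtFunLib.HilbTangent.isVal_unique y (hf I) hI⟩
  · show f (E _ (HomSet.map Art.plus z)) = _
    rw [hnat Art.plus z]
    exact ArtFunLib.HilbTangent.isVal_unique y (hf _) (ArtFunLib.HilbTangent.isVal_add y (E _ z)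
      (by rw [← hnat Art.pr₁ z]; exact hf _) (by rw [← hnat Art.pr₂ z]; exact hf _))
  · show f (E _ (HomSet.map (Art.scale c) φ)) = _
    rw [hnat (Art.scale c) φ]
    exact ArtFunLib.HilbTangent.isVal_unique y (hf _) (ArtFunLib.HilbTangent.isVal_smul y hy c (hf _))

end Groth.Agent.HilbRepTangent
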