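import Groth.Agent.ArtFunLib.Tangent
import Mathlib.RingTheory.Ideal.Cotangent
import Mathlib.LinearAlgebra.Dual.Lemmas

/-! The dual of the cotangent space of a local ring with a rational point as the set of maps to the dual numbers. -/

set_option autoImplicit false
set_option backward.isDefEq.respectTransparency false
set_option backward.isDefEq.respectTransparency.types false
universe u

open CategoryTheory ArtFun IsLocalRing TrivSqZeroExt

noncomputable section

namespace Groth.Agent.HilbRepTangent

variable {k : Type u} [Field k] {R : Type u} [CommRing R] [Algebra k R] [IsLocalRing R] (ev : R →ₐ[k] k)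

theorem ker_ev : RingHom.ker ev = maximalIdeal R := by
  haveI : (RingHom.ker ev).IsMaximal :=
    RingHom.ker_isMaximal_of_surjective _ fun x => ⟨algebraMap k R x, ev.commutes x⟩
  exact IsLocalRing.eq_maximalIdeal inferInstance

theorem sub_mem (r : R) : r - algebraMap k R (ev r) ∈ maximalIdeal R := by
  rw [← ker_ev ev, RingHom.mem_ker, map_sub, ev.commutes]
  exact sub_self _

theorem ev_eq_zero {r : R} (h : r ∈ maximalIdeal R) : ev r = 0 := by
  rwa [← ker_ev ev, RingHom.mem_ker] at h

/-- `r ↦ dr`. -/
def dlin : R →ₗ[k] CotangentSpace R where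
  toFun r := (maximalIdeal R).toCotangent ⟨r - algebraMap k R (ev r), sub_mem ev r⟩
  map_add' a b := by
    rw [← map_add (maximalIdeal R).toCotangent]
    refine congrArg _ (Subtype.ext ?_)
    show a + b - _ = (a - _) + (b - _)
    rw [map_add, map_add]
    abel
  map_smul' c a := by
    rw [RingHom.id_apply, ← algebraMap_smul R c ((maximalIdeal R).toCotangent _),
      ← map_smul (maximalIdeal R).toCotangent]
    refine congrArg _ (Subtype.ext ?_)
    show c • a - _ = algebraMap k R c * (a - _)
    rw [map_smul, smul_eq_mul, map_mul, Algebra.smul_def, mul_sub]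

theorem dlin_of_mem (a : maximalIdeal R) : dlin ev (a : R) = (maximalIdeal R).toCotangent a :=
  congrArg _ (Subtype.ext (by
    show (a : R) - _ = a
    rw [ev_eq_zero ev a.2, map_zero, sub_zero]))

theorem dlin_surjective : Function.Surjective (dlin ev) := fun v => by
  obtain ⟨a, rfl⟩ := (maximalIdeal R).toCotangent_surjective v
  exact ⟨a, dlin_of_mem ev a⟩

theorem dlin_algebraMap (c : k) : dlin ev (algebraMap k R c) = 0 := by
  show (maximalIdeal R).toCotangent _ = 0
  rw [Ideal.toCotangent_eq_zero]
  show algebraMap k R c - _ ∈ _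
  rw [ev.commutes]
  simp

theorem dlin_mul (a b : R) : dlin ev (a * b) = ev a • dlin ev b + ev b • dlin ev a := by
  rw [← algebraMap_smul R (ev a) (dlin ev b), ← algebraMap_smul R (ev b) (dlin ev a)]
  show (maximalIdeal R).toCotangent _ = _ • (maximalIdeal R).toCotangent _ + _ • (maximalIdeal R).toCotangent _
  rw [← map_smul, ← map_smul, ← map_add, ← sub_eq_zero, ← map_sub, Ideal.toCotangent_eq_zero, pow_two]
  show a * b - algebraMap k R (ev (a * b)) - (algebraMap k R (ev a) * (b - algebraMap k R (ev b)) +
    algebraMap k R (ev b) * (a - algebraMap k R (ev a))) ∈ _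
  have : a * b - algebraMap k R (ev (a * b)) - (algebraMap k R (ev a) * (b - algebraMap k R (ev b)) +
      algebraMap k R (ev b) * (a - algebraMap k R (ev a))) =
      (a - algebraMap k R (ev a)) * (b - algebraMap k R (ev b)) := by
    rw [map_mul, map_mul]
    ring
  rw [this]
  exact Ideal.mul_mem_mul (sub_mem ev a) (sub_mem ev b)

/-- The algebra map to a square zero extension of `k` given by a linear form on the cotangent space. -/
def homOf {M : Type u} [AddCommGroup M] [Module k M] [Module kᵐᵒᵖ M] [IsCentralScalar k M]
    (f : CotangentSpace R →ₗ[k] M) : R →ₐ[k] TrivSqZeroExt k M where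
  toFun r := inl (ev r) + inr (f (dlin ev r))
  map_one' := by
    rw [← map_one (algebraMap k R), dlin_algebraMap, map_zero, inr_zero, add_zero, map_one, map_one, inl_one]
  map_mul' a b := by
    refine TrivSqZeroExt.ext ?_ ?_
    · simp [map_mul]
    · simp [dlin_mul, map_add, map_smul]
  map_zero' := by simp
  map_add' a b := by
    refine TrivSqZeroExt.ext ?_ ?_ <;> simp [map_add]
  commutes' c := by
    rw [dlin_algebraMap, map_zero, inr_zero, add_zero, ev.commutes]
    rfl

theorem fst_homOf {M : Type u} [AddCommGroup M] [Module k M] [Module kᵐᵒᵖ M] [IsCentralScalar k M]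
    (f : CotangentSpace R →ₗ[k] M) (r : R) : (homOf ev f r).fst = ev r := by
  show (inl (ev r) + inr (f (dlin ev r))).fst = _
  simp

theorem snd_homOf {M : Type u} [AddCommGroup M] [Module k M] [Module kᵐᵒᵖ M] [IsCentralScalar k M]
    (f : CotangentSpace R →ₗ[k] M) (r : R) : (homOf ev f r).snd = f (dlin ev r) := by
  show (inl (ev r) + inr (f (dlin ev r))).snd = _
  simp

theorem comp_homOf {M N : Type u} [AddCommGroup M] [Module k M] [Module kᵐᵒᵖ M] [IsCentralScalar k M]
    [AddCommGroup N] [Module k N] [Module kᵐᵒᵖ N] [IsCentralScalar k N] (l : M →ₗ[k] N)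
    (f : CotangentSpace R →ₗ[k] M) : (Art.tszeMap l).comp (homOf ev f) = homOf ev (l.comp f) :=
  AlgHom.ext fun r => TrivSqZeroExt.ext ((fst_homOf ev f r).trans (fst_homOf ev _ r).symm)
    ((congrArg l (snd_homOf ev f r)).trans (snd_homOf ev (l.comp f) r).symm)

/-- A point with values in `k[ε]` from a linear form. -/
def dualPt (f : CotangentSpace R →ₗ[k] k) : HomSet R ev (Art.dual k k) :=
  ⟨homOf ev f, AlgHom.ext fun r => fst_homOf ev f r⟩

/-- A point with values in `k[ε₁, ε₂]` from two linear forms. -/
def dual2Pt (f g : CotangentSpace R →ₗ[k] k) : HomSet R ev (Art.dual2 k k) :=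
  ⟨homOf ev (f.prod g), AlgHom.ext fun r => fst_homOf ev _ r⟩

theorem dualPt_bijective : Function.Bijective (dualPt ev) := by
  refine ⟨fun f g h => LinearMap.ext fun v => ?_, fun φ => ?_⟩
  · obtain ⟨r, rfl⟩ := dlin_surjective ev v
    have h1 : homOf ev f r = homOf ev g r := congrArg (fun φ : HomSet R ev (Art.dual k k) => φ.1 r) h
    rw [← snd_homOf ev f r, ← snd_homOf ev g r, h1]
  · let ψ : R →ₐ[k] DualNumber k := φ.1
    have hfst : ∀ r, (ψ r).fst = ev r := fun r => congr($(φ.2) r)
    let D : R →ₗ[k] k :=
      { toFun := fun r => (ψ r).snd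
        map_add' := fun a b => by rw [map_add, snd_add]
        map_smul' := fun c a => by rw [map_smul, snd_smul, RingHom.id_apply] }
    have hD : ∀ c, D (algebraMap k R c) = 0 := fun c => by
      show (ψ (algebraMap k R c)).snd = 0
      rw [ψ.commutes]
      rfl
    let T : maximalIdeal R →ₗ[k] CotangentSpace R := (maximalIdeal R).toCotangent.restrictScalars k
    have hle : LinearMap.ker T ≤ LinearMap.ker (D.comp ((maximalIdeal R).subtype.restrictScalars k)) := by
      intro a ha
      rw [LinearMap.mem_ker, LinearMap.restrictScalars_apply, Ideal.toCotangent_eq_zero, pow_two] at ha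
      show (ψ a).snd = 0
      refine Submodule.mul_induction_on ha (fun p hp q hq => ?_)
        (fun p q hp hq => by rw [map_add, snd_add, hp, hq, add_zero])
      rw [map_mul, DualNumber.snd_mul, hfst, hfst, ev_eq_zero ev hp, ev_eq_zero ev hq, zero_mul, mul_zero, add_zero]
    have hsurj : Function.Surjective T := (maximalIdeal R).toCotangent_surjective
    let F : CotangentSpace R →ₗ[k] k :=
      ((LinearMap.ker T).liftQ _ hle).comp (LinearMap.quotKerEquivOfSurjective T hsurj).symm.toLinearMap
    have hF : ∀ a, F (T a) = (ψ a).snd := fun a => by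
      have e : (LinearMap.quotKerEquivOfSurjective T hsurj).symm (T a) = Submodule.Quotient.mk a :=
        (LinearEquiv.symm_apply_eq _).2 rfl
      exact (congrArg ((LinearMap.ker T).liftQ _ hle) e).trans rfl
    refine ⟨F, Subtype.ext (AlgHom.ext fun r => TrivSqZeroExt.ext ((fst_homOf ev F r).trans (hfst r).symm) ?_)⟩
    refine (snd_homOf ev F r).trans ?_
    show F (T ⟨_, sub_mem ev r⟩) = D r
    rw [hF]
    show D (r - algebraMap k R (ev r)) = D r
    rw [map_sub, hD, sub_zero]

/-- An additive and homogeneous bijection from the `k[ε]`-points computes the dimension of the tangent space. -/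
theorem finrank_cotangent [IsNoetherianRing R] {W : Type u} [AddCommGroup W] [Module k W]
    (Φ : HomSet R ev (Art.dual k k) → W) (hΦ : Function.Bijective Φ)
    (hadd : ∀ z : HomSet R ev (Art.dual2 k k),
      Φ (HomSet.map Art.plus z) = Φ (HomSet.map Art.pr₁ z) + Φ (HomSet.map Art.pr₂ z))
    (hsmul : ∀ (c : k) φ, Φ (HomSet.map (Art.scale c) φ) = c • Φ φ) :
    Module.finrank (ResidueField R) (CotangentSpace R) = Module.finrank k W := by
  have hbij : Function.Bijective (algebraMap k (ResidueField R)) :=
    ⟨(algebraMap k _).injective, fun y => by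
      obtain ⟨r, rfl⟩ := IsLocalRing.residue_surjective y
      exact ⟨ev r, (Ideal.Quotient.eq.2 (sub_mem ev r)).symm⟩⟩
  haveI : Module.Finite k (ResidueField R) := Module.Finite.of_surjective (Algebra.linearMap k _) hbij.2
  haveI : IsScalarTower k (ResidueField R) (CotangentSpace R) := IsScalarTower.of_algebraMap_smul fun c v => by
    rw [IsScalarTower.algebraMap_apply k R (ResidueField R), IsLocalRing.ResidueField.algebraMap_eq]
    obtain ⟨a, rfl⟩ := (maximalIdeal R).toCotangent_surjective v
    rw [← algebraMap_smul R c ((maximalIdeal R).toCotangent a)]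
    rfl
  haveI : Module.Finite k (CotangentSpace R) := Module.Finite.trans (ResidueField R) _
  have hfin : Module.finrank k (CotangentSpace R) = Module.finrank (ResidueField R) (CotangentSpace R) := by
    rw [← Module.finrank_mul_finrank k (ResidueField R) (CotangentSpace R),
      (LinearEquiv.ofBijective (Algebra.linearMap k (ResidueField R)) hbij).finrank_eq.symm, Module.finrank_self,
      _root_.one_mul]
  rw [← hfin, ← Subspace.dual_finrank_eq]
  let Θ : Module.Dual k (CotangentSpace R) →ₗ[k] W :=
    { toFun := fun f => Φ (dualPt ev f)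
      map_add' := fun f g => by
        have h1 : HomSet.map Art.plus (dual2Pt ev f g) = dualPt ev (f + g) :=
          Subtype.ext ((comp_homOf ev _ (f.prod g)).trans (congrArg (homOf ev) (LinearMap.ext fun _ => rfl)))
        have h2 : HomSet.map Art.pr₁ (dual2Pt ev f g) = dualPt ev f :=
          Subtype.ext ((comp_homOf ev _ (f.prod g)).trans (congrArg (homOf ev) (LinearMap.ext fun _ => rfl)))
        have h3 : HomSet.map Art.pr₂ (dual2Pt ev f g) = dualPt ev g :=
          Subtype.ext ((comp_homOf ev _ (f.prod g)).trans (congrArg (homOf ev) (LinearMap.ext fun _ => rfl)))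
        rw [← h1, hadd, h2, h3]
      map_smul' := fun c f => by
        have h1 : HomSet.map (Art.scale c) (dualPt ev f) = dualPt ev (c • f) :=
          Subtype.ext ((comp_homOf ev _ f).trans (congrArg (homOf ev) (LinearMap.ext fun _ => rfl)))
        rw [← h1, hsmul, RingHom.id_apply] }
  exact (LinearEquiv.ofBijective Θ (hΦ.comp (dualPt_bijective ev))).finrank_eq

end Groth.Agent.HilbRepTangent
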