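import Groth.Agent.HilbRepTangent.Main
import Groth.Agent.ArtFunLib.ObsBound
import Groth.Agent.ArtFunLib.SmoothHull
import Groth.Agent.S0548
import Groth.Agent.PSLib.Regular

/-! Smooth points of representing schemes. -/

set_option autoImplicit false
set_option backward.isDefEq.respectTransparency false
set_option backward.isDefEq.respectTransparency.types false
set_option linter.style.haveILetI false
set_option maxHeartbeats 800000
universe u

open CategoryTheory ArtFun IsLocalRing
open scoped TensorProduct

noncomputable section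

namespace Groth.Agent.HilbRepTangent

variable {k : Type u} [Field k]

/-- A smooth functor has the zero obstruction space. -/
theorem hasObsTheory_of_isSmoothFunctor {F : Art k k ⥤ Type u} (hF : IsSmoothFunctor F) :
    HasObsTheory F PUnit.{u + 1} := by
  haveI : ∀ (N : Type u) [AddCommGroup N] [Module k N], Subsingleton (PUnit.{u + 1} ⊗[k] N) := fun N _ _ => by
    refine subsingleton_of_forall_eq 0 fun z => ?_
    induction z using TensorProduct.induction_on with
    | zero => rfl
    | tmul a b => rw [Subsingleton.elim a 0, TensorProduct.zero_tmul]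
    | add a b ha hb => rw [ha, hb, add_zero]
  exact ⟨{ obs := fun _ _ _ => 0
           obs_eq_zero_iff := fun p hp u => ⟨fun _ => hF p hp.1 u, fun _ => rfl⟩
           obs_quot := fun _ _ _ _ _ _ _ => Subsingleton.elim _ _ }⟩

/-- A Noetherian local algebra with rational point is regular when its functor of points on Artinian
algebras is smooth. -/
theorem isRegularLocalRing_of_smooth {R : Type u} [CommRing R] [Algebra k R] [IsLocalRing R] [IsNoetherianRing R]
    (ev : R →ₐ[k] k) (hs : IsSmoothFunctor (hR R ev)) : IsRegularLocalRing R := by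
  have hsurj : Function.Surjective ev := fun c => ⟨algebraMap k R c, ev.commutes c⟩
  obtain ⟨T, ι, ⟨e⟩, hι, -, -, hex, hu⟩ := Groth.Agent.ArtFunLib.Completion.exists_completion_ringEquiv ev hsurj
  have hsT : IsSmoothFunctor (hR T.carrier T.res) := fun B A μ hμ φ => by
    let φ' : HomSet T.carrier T.res A := φ
    obtain ⟨ψ, hψ⟩ := hs μ hμ (⟨φ'.1.comp ι, by rw [← AlgHom.comp_assoc, φ'.2, hι]⟩ : HomSet R ev A)
    let ψ' : HomSet R ev B := ψ
    obtain ⟨h, hh, hh'⟩ := hex (ArtFunLib.toCRing B) ψ'.1 ψ'.2
    refine ⟨(⟨h, hh⟩ : HomSet T.carrier T.res B), Subtype.ext ?_⟩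
    refine hu (ArtFunLib.toCRing A) (μ.toAlgHom.comp h) φ'.1 ?_ φ'.2 ?_
    · show A.res.comp (μ.toAlgHom.comp h) = _
      rw [← AlgHom.comp_assoc, μ.res_comp]
      exact hh
    · rw [AlgHom.comp_assoc, hh']
      exact congrArg Subtype.val hψ
  obtain ⟨n, π, hπ, hJ⟩ := ArtFunLib.ObsHR.exists_minimal_presentation T
  haveI := PSLib.isRegularLocalRing k n
  obtain ⟨O⟩ := hasObsTheory_of_isSmoothFunctor hsT
  have hreg : IsRegularLocalRing T.carrier :=
    (ArtFunLib.ObsBound.bounds T.res π hπ hJ O).2.2.1 (Module.finrank_zero_of_subsingleton)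
  rw [Groth.Agent.S0548.result R, ← ker_ev ev]
  exact IsRegularLocalRing.of_ringEquiv e.symm

end Groth.Agent.HilbRepTangent
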